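import Cfsg.Agent.GWFour.Consumers.DoubleCover
import Cfsg.Agent.S2118

/-!
The perfect double cover of `PSL(2, q)`, `q = 9` included.
-/

set_option autoImplicit false
set_option linter.style.haveILetI false

namespace Cfsg.Lib.GWD

open Subgroup Matrix
open scoped MatrixGroups commutatorElement

universe u v

/-- A stem extension of a group with multiplier of order `n`, in any universe. -/
theorem stem_card_dvd {Q : Type} [Group Q] {n : ℕ} [NeZero n] (hQ : Cfsg.HasCyclicSchurMultiplier Q n)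
    {Γ : Type u} [Group Γ] [Finite Γ] (σ : Γ →* Q) (hσ : Cfsg.IsStemExtension σ) : Nat.card σ.ker ∣ n := by
  haveI : Finite (Shrink.{0} Γ) := Finite.of_equiv Γ (equivShrink.{0} Γ)
  set e : Shrink.{0} Γ ≃* Γ := Shrink.mulEquiv
  set τ := σ.comp e.toMonoidHom with hτ
  have hτs : Cfsg.IsStemExtension τ := by
    refine ⟨hσ.1.comp e.surjective, fun x hx => mem_center_iff.2 fun y => e.injective ?_, fun x hx => ?_⟩
    · rw [map_mul, map_mul]
      exact mem_center_iff.1 (hσ.2.1 (show e x ∈ σ.ker from hx)) _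
    · have h := hσ.2.2 (show e x ∈ σ.ker from hx)
      have hmap : (commutator (Shrink.{0} Γ)).map e.toMonoidHom = commutator Γ := by
        rw [_root_.commutator_def, map_commutator, map_top_of_surjective _ e.surjective, ← _root_.commutator_def]
      obtain ⟨y, hy, hye⟩ := hmap.ge h
      exact e.injective hye ▸ hy
  obtain ⟨π, hπ⟩ := hQ.2 _ τ hτs
  have h1 : Nat.card τ.ker ∣ n := by
    simpa using card_dvd_of_surjective π hπ
  refine (dvd_of_eq ?_).trans h1
  exact Nat.card_congr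
    { toFun := fun x => ⟨e.symm x.1, by
        show σ (e (e.symm x.1)) = 1
        rw [e.apply_symm_apply]; exact x.2⟩
      invFun := fun x => ⟨e x.1, x.2⟩
      left_inv := fun x => Subtype.ext (e.apply_symm_apply x.1)
      right_inv := fun x => Subtype.ext (e.symm_apply_apply x.1) }

/-- A perfect central extension of `PSL(2, q)` by a group of order two is `SL(2, q)`, for odd `q ≥ 5`. -/
theorem double_cover {Δ : Type u} [Group Δ] [Finite Δ] {F : Type} [Field F] [Fintype F]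
    (hodd : Odd (Fintype.card F)) (h5 : 5 ≤ Fintype.card F) (Z : Subgroup Δ) [Z.Normal]
    (hZc : Z ≤ Subgroup.center Δ) (hZ2 : Nat.card Z = 2) (hperf : commutator Δ = ⊤)
    (e : Δ ⧸ Z ≃* ProjectiveSpecialLinearGroup (Fin 2) F) : Nonempty (Δ ≃* SL(2, F)) := by
  classical
  obtain ⟨n, hn, hM⟩ : ∃ n : ℕ, Odd n ∧ Cfsg.HasCyclicSchurMultiplier SL(2, F) n := by
    by_cases h9 : Fintype.card F = 9
    · exact ⟨3, by decide, Cfsg.Agent.S2118.result h9⟩
    · exact ⟨1, odd_one, Cfsg.Agent.S2117.result (by omega) h9⟩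
  haveI : NeZero n := ⟨fun h => by rw [h] at hn; exact absurd hn (by decide)⟩
  set σ₀ : SL(2, F) →* Δ ⧸ Z := e.symm.toMonoidHom.comp (QuotientGroup.mk' (Subgroup.center SL(2, F))) with hσ₀
  have hs0 : Function.Surjective σ₀ := e.symm.surjective.comp (QuotientGroup.mk'_surjective _)
  set q := QuotientGroup.mk' Z with hq
  set P : Subgroup (Δ × SL(2, F)) :=
    (q.comp (MonoidHom.fst Δ SL(2, F))).eqLocus (σ₀.comp (MonoidHom.snd Δ SL(2, F))) with hP
  set p₁ : ↥P →* Δ := (MonoidHom.fst Δ SL(2, F)).comp P.subtype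
  set p₂ : ↥P →* SL(2, F) := (MonoidHom.snd Δ SL(2, F)).comp P.subtype
  have h1 : Function.Surjective p₁ := fun d => by
    obtain ⟨s, hs⟩ := hs0 (q d)
    exact ⟨⟨(d, s), hs.symm⟩, rfl⟩
  have h2 : Function.Surjective p₂ := fun s => by
    obtain ⟨d, hd⟩ := QuotientGroup.mk'_surjective Z (σ₀ s)
    exact ⟨⟨(d, s), hd⟩, rfl⟩
  have hk : ∀ x : P, p₂ x = 1 → x ∈ center ↥P := by
    intro x hx
    have hxZ : p₁ x ∈ Z := by
      rw [← QuotientGroup.eq_one_iff]
      have h : q (p₁ x) = σ₀ (p₂ x) := x.2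
      rw [hx, map_one] at h
      exact h
    refine mem_center_iff.2 fun y => Subtype.ext (Prod.ext ?_ ?_)
    · exact mem_center_iff.1 (hZc hxZ) (p₁ y)
    · show p₂ y * p₂ x = p₂ x * p₂ y
      rw [hx, one_mul, mul_one]
  have hsperf : commutator SL(2, F) = ⊤ := Cfsg.Lib.Known.sl2_commutator_eq_top F (by omega)
  set D := commutator ↥P with hD
  have hD2 : D.map p₂ = ⊤ := by
    rw [hD, _root_.commutator_def, map_commutator, map_top_of_surjective _ h2, ← _root_.commutator_def, hsperf]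
  have hD1 : D.map p₁ = ⊤ := by
    rw [hD, _root_.commutator_def, map_commutator, map_top_of_surjective _ h1, ← _root_.commutator_def, hperf]
  have hdec : ∀ x : P, ∃ d ∈ D, ∃ k ∈ center ↥P, x = d * k := by
    intro x
    obtain ⟨d, hd, hdx⟩ := hD2.ge (mem_top (p₂ x))
    exact ⟨d, hd, d⁻¹ * x, hk _ (by rw [map_mul, map_inv, hdx, inv_mul_cancel]), by rw [mul_inv_cancel_left]⟩
  have hperfD : commutator ↥D = ⊤ := by
    have hle : D ≤ (commutator ↥D).map D.subtype := by
      rw [hD, _root_.commutator_def, commutator_le]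
      intro a _ b _
      obtain ⟨d, hd, k, hk', rfl⟩ := hdec a
      obtain ⟨d', hd', k', hk'', rfl⟩ := hdec b
      have hc1 := mem_center_iff.1 hk'
      have hc2 := mem_center_iff.1 hk''
      have e : ⁅d * k, d' * k'⁆ = ⁅d, d'⁆ := by
        rw [commutatorElement_def, commutatorElement_def, _root_.mul_inv_rev, _root_.mul_inv_rev]
        calc d * k * (d' * k') * (k⁻¹ * d⁻¹) * (k'⁻¹ * d'⁻¹)
            = d * (k * d') * k' * k⁻¹ * d⁻¹ * k'⁻¹ * d'⁻¹ := by simp only [mul_assoc]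
          _ = d * d' * (k * k') * k⁻¹ * d⁻¹ * k'⁻¹ * d'⁻¹ := by rw [← hc1 d']; simp only [mul_assoc]
          _ = d * d' * k' * d⁻¹ * k'⁻¹ * d'⁻¹ := by rw [← hc1 k']; group
          _ = d * d' * d⁻¹ * d'⁻¹ := by
            rw [mul_assoc (d * d') k' d⁻¹, ← hc2 d⁻¹]; group
      rw [e]
      exact ⟨⁅⟨d, hd⟩, ⟨d', hd'⟩⁆, commutator_mem_commutator (mem_top _) (mem_top _), rfl⟩
    refine eq_top_iff.2 fun x _ => ?_
    obtain ⟨y, hy, hyx⟩ := hle x.2
    exact (Subtype.ext hyx : y = x) ▸ hy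
  set f₂ : ↥D →* SL(2, F) := p₂.comp D.subtype
  set f₁ : ↥D →* Δ := p₁.comp D.subtype
  have hf2 : Cfsg.IsStemExtension f₂ := by
    refine ⟨fun s => ?_, fun x hx => mem_center_iff.2 fun y => Subtype.ext (mem_center_iff.1 (hk x hx) y),
      hperfD ▸ le_top⟩
    obtain ⟨d, hd, h⟩ := hD2.ge (mem_top s)
    exact ⟨⟨d, hd⟩, h⟩
  have hker : Nat.card f₂.ker = 1 := by
    have hle : Nat.card f₂.ker ≤ 2 := by
      refine le_trans (Nat.card_le_card_of_injective (fun x => (⟨p₁ x.1.1, ?_⟩ : Z)) fun x y h => ?_) hZ2.le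
      · rw [← QuotientGroup.eq_one_iff]
        have h : q (p₁ x.1.1) = σ₀ (p₂ x.1.1) := x.1.1.2
        rw [show p₂ x.1.1 = 1 from x.2, map_one] at h
        exact h
      · refine Subtype.ext (Subtype.ext (Subtype.ext (Prod.ext (congrArg Subtype.val h) ?_)))
        exact (show p₂ x.1.1 = 1 from x.2).trans (show p₂ y.1.1 = 1 from y.2).symm
    have hdvd := stem_card_dvd hM f₂ hf2
    have h0 : 0 < Nat.card f₂.ker := Nat.card_pos
    by_contra hne
    have h2 : Nat.card f₂.ker = 2 := by omega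
    rw [h2] at hdvd
    exact Nat.not_even_iff_odd.2 hn (even_iff_two_dvd.2 hdvd)
  have hinj : Function.Injective f₂ := (MonoidHom.ker_eq_bot_iff f₂).1 (card_eq_one.1 hker)
  let E : ↥D ≃* SL(2, F) := MulEquiv.ofBijective f₂ ⟨hinj, hf2.1⟩
  set g := f₁.comp E.symm.toMonoidHom
  have hg : Function.Surjective g := fun d => by
    obtain ⟨x, hx, hxd⟩ := hD1.ge (mem_top d)
    exact ⟨E ⟨x, hx⟩, by simp [g, f₁, hxd]⟩
  have hcard : Nat.card Δ = Nat.card SL(2, F) := by
    rw [Subgroup.card_eq_card_quotient_mul_card_subgroup Z, Nat.card_congr e.toEquiv, hZ2]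
    refine Eq.trans ?_ (Subgroup.card_eq_card_quotient_mul_card_subgroup (Subgroup.center SL(2, F))).symm
    rw [Cfsg.Lib.GWFour.sl_center_card hodd]
  exact ⟨(MulEquiv.ofBijective g ((Nat.bijective_iff_surjective_and_card g).2 ⟨hg, hcard.symm⟩)).symm⟩

end Cfsg.Lib.GWD
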