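import Cfsg.Agent.GWDihedral.Shell.Target
import Cfsg.Agent.GWDihedral.Consumers.DoubleCover
import Cfsg.Agent.GWDihedral.Consumers.QGroup.Quotient
import Cfsg.Agent.GWFour.Consumers.Quaternion
import Cfsg.Agent.BenderSE.Induction
import Cfsg.Agent.S0201
import Cfsg.Agent.S0218
import Cfsg.Prelude.Def_SporadicB

/-!
Perfect groups of 2-rank one, from the dihedral theorem.
-/

set_option autoImplicit false
set_option linter.unusedSectionVars false
set_option linter.style.haveILetI false

namespace Cfsg.Lib.GWD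

open Subgroup Cfsg.Lib.GenDihedral

universe u

variable {G : Type u} [Group G] [Finite G]

/-- A perfect group of 2-rank one and even order. -/
theorem perfect_rank_one (hD : DihedralProp.{u}) (hP : Group.IsPerfect G) (h1 : Cfsg.PRankLE 2 1 G)
    (h2 : Even (Nat.card G)) :
    (∃ (F : Type) (_ : Field F) (_ : Fintype F), Odd (Fintype.card F) ∧ 3 < Fintype.card F ∧
        Nonempty (G ⧸ Cfsg.oddCore G ≃* Matrix.SpecialLinearGroup (Fin 2) F)) ∨
      Cfsg.IsNonsplitDoubleCover (G ⧸ Cfsg.oddCore G) ↥(alternatingGroup (Fin 7)) := by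
  haveI : Fact (Nat.Prime 2) := ⟨Nat.prime_two⟩
  haveI := hP
  haveI : Nontrivial G := Finite.one_lt_card_iff_nontrivial.1 (by
    obtain ⟨k, hk⟩ := h2
    have := Nat.card_pos (α := G)
    omega)
  have hns : ¬ Group.IsSolvable G := Group.IsPerfect.not_isSolvable G
  have hcomm : ¬ Cfsg.Lib.BenderSE.HasCommutingInvolutions G := by
    rintro ⟨p, q, hp, hq, hne, hc⟩
    have hpp : p * p = 1 := mul_self_of_two hp
    have hqq : q * q = 1 := mul_self_of_two hq
    have hcl : IsMulCommutative ↥(closure ({p, q} : Set G)) := by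
      refine isMulCommutative_closure ?_
      rintro x (rfl | rfl) y (rfl | rfl)
      exacts [rfl, hc, hc.symm, rfl]
    have hA := h1 (closure ({p, q} : Set G)) hcl ?_
    · have hp1 : p ≠ 1 := fun h => by rw [h, orderOf_one] at hp; omega
      have hq1 : q ≠ 1 := fun h => by rw [h, orderOf_one] at hq; omega
      have h3 : ({1, p, q} : Set G).ncard = 3 := Set.ncard_eq_three.2
        ⟨1, p, q, hp1.symm, hq1.symm, hne, rfl⟩
      have hle : ({1, p, q} : Set G) ⊆ (closure ({p, q} : Set G) : Set G) := by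
        rintro x (rfl | rfl | rfl)
        · exact one_mem _
        · exact subset_closure (by simp)
        · exact subset_closure (by simp)
      have h4 := Set.ncard_le_ncard hle (Set.toFinite _)
      rw [h3, ← Nat.card_coe_set_eq] at h4
      rw [pow_one] at hA
      change 3 ≤ Nat.card ↥(closure ({p, q} : Set G)) at h4
      omega
    · intro a ha
      induction ha using closure_induction with
      | mem x hx =>
        rcases hx with rfl | rfl
        · rw [pow_two]; exact hpp
        · rw [pow_two]; exact hqq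
      | one => exact one_pow 2
      | mul x y hx hy ihx ihy =>
        have hcy : Commute x y := congrArg Subtype.val (hcl.is_comm.comm ⟨x, hx⟩ ⟨y, hy⟩)
        rw [hcy.mul_pow, ihx, ihy, one_mul]
      | inv x hx ih => rw [inv_pow, ih, inv_one]
  obtain ⟨S⟩ : Nonempty (Sylow 2 G) := inferInstance
  rcases Cfsg.Lib.BenderSE.isCyclic_or_quaternion_of_rankOne hcomm S with hc | ⟨m, hm, ⟨eS⟩⟩
  · exact absurd (Cfsg.Lib.CyclicInter.solvable_of_cyclic S hc) hns
  obtain ⟨n, rfl⟩ : ∃ n, m = n + 1 := ⟨m - 1, by omega⟩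
  set O := Cfsg.oddCore G with hO
  have hodd : Odd (Nat.card O) := Nat.coprime_two_right.1 (Cfsg.Lib.Components.coprime_card_pPrimeCore 2)
  set q := QuotientGroup.mk' O with hq
  set T : Sylow 2 (G ⧸ O) := S.mapSurjective (QuotientGroup.mk'_surjective O) with hT
  have hinj : Function.Injective (q.comp (S : Subgroup G).subtype) := by
    rw [injective_iff_map_eq_one]
    intro x hx
    obtain ⟨k, hk⟩ := IsPGroup.iff_orderOf.1 S.2 x
    have hd : orderOf x ∣ Nat.card O := by
      rw [← orderOf_coe]; exact Subgroup.orderOf_dvd_natCard _ ((QuotientGroup.eq_one_iff _).1 hx)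
    exact orderOf_eq_one_iff.1 (Nat.eq_one_of_dvd_coprimes ((Nat.coprime_two_left.2 hodd).pow_left k) hk.dvd hd)
  let eT : ↥(T : Subgroup (G ⧸ O)) ≃* QuaternionGroup (2 ^ (n + 1)) :=
    ((MonoidHom.ofInjective hinj).trans (MulEquiv.subgroupCongr (by
      rw [MonoidHom.range_comp, Subgroup.range_subtype]; rfl))).symm.trans eS
  have hO0 : NoOdd (G ⧸ O) := fun M hM ho => by
    have := @Cfsg.Lib.Components.le_pPrimeCore _ _ 2 M hM (Nat.coprime_two_right.2 ho)
    rw [Cfsg.Lib.Components.pPrimeCore_quotient_eq_bot] at this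
    exact le_bot_iff.1 this
  obtain ⟨hZ2, hO1, hU⟩ := quaternion_quot T n eT hO0
  set Z := center (G ⧸ O) with hZ
  set U : Sylow 2 ((G ⧸ O) ⧸ Z) := T.mapSurjective (QuotientGroup.mk'_surjective Z)
  have hperf : commutator (G ⧸ O) = ⊤ := Group.IsPerfect.commutator_eq_top
  have hY := perfect_case hD U (Nat.le_self_pow (Nat.succ_ne_zero n) 2) hU
  have eY : ((G ⧸ O) ⧸ Z) ⧸ Cfsg.oddCore ((G ⧸ O) ⧸ Z) ≃* (G ⧸ O) ⧸ Z :=
    (QuotientGroup.quotientMulEquivOfEq hO1).trans QuotientGroup.quotientBot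
  rcases hY with ⟨F, i, j, hF, h5, ⟨e⟩⟩ | ⟨⟨e⟩⟩
  · obtain ⟨f⟩ := double_cover hF h5 Z le_rfl hZ2 hperf (eY.symm.trans e)
    exact Or.inl ⟨F, i, j, hF, by omega, ⟨f⟩⟩
  · refine Or.inr ⟨hZ2, ⟨eY.symm.trans e⟩, fun L hL => ?_⟩
    have hi : L.index = 2 := hL.index_eq_card.trans hZ2
    haveI : L.Normal := Subgroup.normal_of_index_eq_two hi
    haveI : Group.IsPerfect ((G ⧸ O) ⧸ L) := inferInstance
    haveI : Nontrivial ((G ⧸ O) ⧸ L) := Finite.one_lt_card_iff_nontrivial.1 (by rw [← index_eq_card, hi]; norm_num)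
    exact Group.IsPerfect.not_isSolvable ((G ⧸ O) ⧸ L) (solvable_of_not_four (by
      rw [← index_eq_card, hi]; norm_num))

end Cfsg.Lib.GWD
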