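import Cfsg.Agent.GWDihedral.Tops.Psl
import Cfsg.Agent.Components.GenFitting
import Cfsg.Agent.Classical.Misc.SmallPSL
import Cfsg.Agent.Classical.Misc.PSLSeven
import Cfsg.Agent.S0253

/-!
Simple groups with dihedral Sylow 2-subgroups in which an involution centraliser lies properly in a subgroup
without components.
-/

set_option autoImplicit false
set_option linter.unusedSectionVars false
set_option linter.style.haveILetI false

namespace Cfsg.Lib.GWD

open Subgroup Matrix Cfsg.Lib.GenDihedral Cfsg.Lib.Classical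
open scoped MatrixGroups

universe u

/-- A group without components has a nontrivial elementary abelian normal subgroup. -/
theorem exists_elementary_normal {K : Type u} [Group K] [Finite K] [Nontrivial K]
    (h : Cfsg.generalizedFittingSubgroup K = Cfsg.fittingSubgroup K) :
    ∃ (p : ℕ) (A : Subgroup K), p.Prime ∧ A.Normal ∧ A ≠ ⊥ ∧
      (∀ a ∈ A, a ^ p = 1) ∧ ∀ a ∈ A, ∀ b ∈ A, a * b = b * a := by
  set N := Cfsg.fittingSubgroup K with hN
  have hne : N ≠ ⊥ := by
    intro e
    have hc := Cfsg.Lib.Components.centralizer_genFitting_le (G := K)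
    rw [h, e, show centralizer ((⊥ : Subgroup K) : Set K) = ⊤ from
      eq_top_iff.2 fun x _ => mem_centralizer_iff.2 fun y hy => by rw [mem_bot.1 hy, one_mul, mul_one]] at hc
    exact top_ne_bot (le_bot_iff.1 hc)
  haveI : Group.IsNilpotent N := Cfsg.Lib.Components.isNilpotent_fitting
  haveI : Nontrivial N := (Subgroup.nontrivial_iff_ne_bot N).2 hne
  haveI : N.Normal := by rw [hN]; infer_instance
  set Z := (center N).map N.subtype with hZ
  haveI : Z.Normal := inferInstance
  have hZ1 : Z ≠ ⊥ := by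
    rw [Ne, hZ, Subgroup.map_eq_bot_iff_of_injective _ N.subtype_injective]
    exact Group.IsNilpotent.center_ne_bot N
  have hcomm : ∀ a ∈ Z, ∀ b ∈ Z, a * b = b * a := by
    rintro _ ⟨a, -, rfl⟩ _ ⟨b, hb, rfl⟩
    exact congrArg Subtype.val (mem_center_iff.1 hb a)
  have hc1 : Nat.card Z ≠ 1 := fun e => hZ1 (card_eq_one.1 e)
  obtain ⟨p, hp, hd⟩ := Nat.exists_prime_and_dvd hc1
  haveI : Fact p.Prime := ⟨hp⟩
  obtain ⟨⟨x, hx⟩, hxp⟩ := exists_prime_orderOf_dvd_card' p hd
  rw [Subgroup.orderOf_mk] at hxp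
  let A : Subgroup K :=
    { carrier := {a | a ∈ Z ∧ a ^ p = 1}
      one_mem' := ⟨one_mem _, one_pow p⟩
      mul_mem' := fun {a b} ha hb => ⟨mul_mem ha.1 hb.1, by
        rw [(show Commute a b from hcomm a ha.1 b hb.1).mul_pow, ha.2, hb.2, one_mul]⟩
      inv_mem' := fun {a} ha => ⟨inv_mem ha.1, by rw [inv_pow, ha.2, inv_one]⟩ }
  refine ⟨p, A, hp, ⟨fun a ha g => ⟨Subgroup.Normal.conj_mem inferInstance a ha.1 g, ?_⟩⟩, ?_,
    fun a ha => ha.2, fun a ha b hb => hcomm a ha.1 b hb.1⟩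
  · rw [conj_pow, ha.2, mul_one, mul_inv_cancel]
  · intro e
    have : x ∈ A := ⟨hx, hxp ▸ pow_orderOf_eq_one x⟩
    rw [e, mem_bot] at this
    rw [this, orderOf_one] at hxp
    exact hp.one_lt.ne hxp

/-- In a dihedral group of order at least six the centre has order at most two. -/
theorem central_unique {d : ℕ} (hd : 3 ≤ d) {x y : DihedralGroup d} (hx : ∀ g, g * x = x * g)
    (hy : ∀ g, g * y = y * g) (hx1 : x ≠ 1) (hy1 : y ≠ 1) : x = y := by
  haveI : NeZero d := ⟨by omega⟩
  have h2 : (2 : ZMod d) ≠ 0 := fun e => by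
    have h : ((2 : ℕ) : ZMod d) = 0 := by exact_mod_cast e
    rw [ZMod.natCast_eq_zero_iff] at h
    have := Nat.le_of_dvd two_pos h
    omega
  have key : ∀ z : DihedralGroup d, (∀ g, g * z = z * g) → z ≠ 1 → ∃ i : ZMod d, z = .r i ∧ 2 * i.val = d := by
    rintro (i | i) hz hz1
    · refine ⟨i, rfl, ?_⟩
      have h := hz (.sr 0)
      simp only [DihedralGroup.sr_mul_r, DihedralGroup.r_mul_sr, DihedralGroup.sr.injEq, zero_add, zero_sub] at h
      exact ((ZMod.neg_eq_self_iff i).1 h.symm).resolve_left fun e => hz1 (by rw [e, DihedralGroup.r_zero])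
    · have h := hz (.r 1)
      simp only [DihedralGroup.sr_mul_r, DihedralGroup.r_mul_sr, DihedralGroup.sr.injEq] at h
      exact absurd (by linear_combination -h) h2
  obtain ⟨i, rfl, hi⟩ := key x hx hx1
  obtain ⟨j, rfl, hj⟩ := key y hy hy1
  rw [ZMod.val_injective d (show i.val = j.val by omega)]

variable {G : Type u} [Group G] [Finite G]

/-- The centraliser of a four-group has order four. -/
theorem card_cent_four (S : Sylow 2 G) {m : ℕ} (hm : 2 ≤ m) (hS : Nonempty ((S : Subgroup G) ≃* DihedralGroup m))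
    (K : L2Like (⊤ : Subgroup G)) {t u w : G} (F4 : IsFour t u w) :
    Nat.card (centralizer ({t, u} : Set G)) ≤ 4 := by
  haveI : Fact (Nat.Prime 2) := ⟨Nat.prime_two⟩
  haveI : NeZero m := ⟨by omega⟩
  set C := centralizer ({t, u} : Set G) with hC
  have hmem : ∀ {g : G}, g ∈ C → g * t = t * g ∧ g * u = u * g := fun {g} hg =>
    ⟨(mem_centralizer_iff.1 hg t (by simp)).symm, (mem_centralizer_iff.1 hg u (by simp)).symm⟩
  have hp : IsPGroup 2 C := by
    refine IsPGroup.iff_orderOf.2 fun g => ?_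
    obtain ⟨k, r, hr, hk⟩ := Nat.exists_eq_two_pow_mul_odd (orderOf_pos g).ne'
    refine ⟨k, ?_⟩
    set h := g ^ 2 ^ k with hh
    have ho : orderOf h = r := by
      rw [hh, orderOf_pow_of_dvd (by positivity) (hk ▸ dvd_mul_right _ _), hk,
        Nat.mul_div_cancel_left _ (by positivity)]
    obtain ⟨e1, e2⟩ := hmem h.2
    have hg : (h : G) ∈ Cfsg.Lib.FourGW.tor (⊤ : Subgroup G) t :=
      (K.mem_tor F4.z2).2 ⟨mem_top _, e1, by rw [orderOf_coe, ho]; exact hr⟩
    have hinv := K.tor_inv F4.z2 F4.t2 F4.ne_zt.symm F4.comm.symm hg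
    rw [← e2, mul_inv_cancel_right] at hinv
    have h1 : h = 1 := Subtype.ext (eq_one_of_sq_of_odd (by nth_rw 2 [hinv]; exact mul_inv_cancel _)
      (by rw [orderOf_coe, ho]; exact hr))
    rw [h1, orderOf_one] at ho
    rw [hk, ← ho, mul_one]
  obtain ⟨T, hT⟩ := hp.exists_le_sylow
  obtain ⟨g, hg⟩ := MulAction.exists_smul_eq G T S
  have hle : C.map (MulAut.conj g).toMonoidHom ≤ (S : Subgroup G) := by rw [← hg]; exact map_mono hT
  have htC : t ∈ C := mem_centralizer_iff.2 fun x hx => by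
    rcases hx with rfl | rfl
    exacts [rfl, F4.comm.symm]
  have huC : u ∈ C := mem_centralizer_iff.2 fun x hx => by
    rcases hx with rfl | rfl
    exacts [F4.comm, rfl]
  have e : C ≃* ↥(C.map (MulAut.conj g).toMonoidHom) := C.equivMapOfInjective _ (MulAut.conj g).injective
  have ht1 : (⟨t, htC⟩ : C) ≠ 1 := fun h => by
    have := F4.z2
    rw [show t = 1 from congrArg Subtype.val h, orderOf_one] at this
    omega
  have hu1 : (⟨u, huC⟩ : C) ≠ 1 := fun h => by
    have := F4.t2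
    rw [show u = 1 from congrArg Subtype.val h, orderOf_one] at this
    omega
  rcases sub_of_equiv hS.some hle with hc | ⟨d, hd, ⟨f⟩⟩
  · haveI := hc
    haveI : IsCyclic C := isCyclic_of_injective e.toMonoidHom e.injective
    exfalso
    classical
    haveI := Fintype.ofFinite C
    have h2 := IsCyclic.card_pow_eq_one_le (α := C) two_pos
    have h3 : ({1, ⟨t, htC⟩, ⟨u, huC⟩} : Finset C) ⊆ Finset.univ.filter fun a : C => a ^ 2 = 1 := by
      intro a ha
      simp only [Finset.mem_insert, Finset.mem_singleton] at ha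
      simp only [Finset.mem_filter, Finset.mem_univ, true_and]
      rcases ha with rfl | rfl | rfl
      exacts [one_pow 2, Subtype.ext ((pow_two t).trans (mul_self_of_two F4.z2)),
        Subtype.ext ((pow_two u).trans (mul_self_of_two F4.t2))]
    have h4 := (Finset.card_le_card h3).trans h2
    rw [Finset.card_eq_three.2 ⟨1, ⟨t, htC⟩, ⟨u, huC⟩, ht1.symm, hu1.symm,
      fun h => F4.ne_zt (congrArg Subtype.val h), rfl⟩] at h4
    omega
  · have f' : C ≃* DihedralGroup d := e.trans f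
    rw [Nat.card_congr f'.toEquiv, DihedralGroup.nat_card]
    by_contra hlt
    have hc : ∀ x : C, (∀ y : C, y * x = x * y) → ∀ y, y * f' x = f' x * y := fun x hx y => by
      obtain ⟨y, rfl⟩ := f'.surjective y
      rw [← map_mul, ← map_mul, hx]
    refine F4.ne_zt (congrArg Subtype.val (f'.injective (central_unique (by omega)
      (hc ⟨t, htC⟩ fun y => Subtype.ext (hmem y.2).1) (hc ⟨u, huC⟩ fun y => Subtype.ext (hmem y.2).2) ?_ ?_)))
    · exact fun h => ht1 ((map_eq_one_iff f' f'.injective).1 h)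
    · exact fun h => hu1 ((map_eq_one_iff f' f'.injective).1 h)

/-- An involution centraliser properly inside a subgroup without components forces `q ∈ {5, 7, 9}`. -/
theorem psl_field_card {F : Type} [Field F] [Fintype F] (hodd : Odd (Fintype.card F)) (h5 : 5 ≤ Fintype.card F)
    [IsSimpleGroup G] (S : Sylow 2 G) {m : ℕ} (hm : 2 ≤ m) (hS : Nonempty ((S : Subgroup G) ≃* DihedralGroup m))
    (e : G ≃* Matrix.ProjectiveSpecialLinearGroup (Fin 2) F) {t : G} (ht : orderOf t = 2) {K : Subgroup G}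
    (hlt : centralizer ({t} : Set G) < K) (hK : Cfsg.generalizedFittingSubgroup K = Cfsg.fittingSubgroup K) :
    Fintype.card F = 5 ∨ Fintype.card F = 7 ∨ Fintype.card F = 9 := by
  classical
  set c := Nat.card (PSLFour.C (F := F)) with hc
  have hcard : ∀ x : G, orderOf x = 2 → Nat.card (centralizer ({x} : Set G)) = c := by
    intro x hx
    rw [hc, ← card_cent_psl hodd (show orderOf (e x) = 2 by rw [MulEquiv.orderOf_eq, hx])]
    refine Nat.card_congr (e.toEquiv.subtypeEquiv fun y => ?_)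
    rw [GenDihedral.mem_cent, GenDihedral.mem_cent]
    change _ ↔ e y * e x = e x * e y
    rw [← map_mul, ← map_mul, e.injective.eq_iff]
  have hltc : c < Nat.card K := by
    rw [← hcard t ht]
    exact Set.ncard_lt_ncard (SetLike.coe_ssubset_coe.2 hlt) (Set.toFinite _) |>.trans_le le_rfl
  have hno : ∀ x : G, orderOf x = 2 → ¬ K ≤ centralizer ({x} : Set G) := by
    intro x hx hle
    have := hcard x hx ▸ Subgroup.card_le_of_le hle
    omega
  -- an elementary abelian subgroup normalised by `K`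
  haveI : Nontrivial K := (Subgroup.nontrivial_iff_ne_bot K).2 (ne_bot_of_gt hlt)
  obtain ⟨p, A₀, hp, hAn, hA0, hAp, hAc⟩ := exists_elementary_normal hK
  set A := A₀.map K.subtype with hA
  have hconjA : ∀ k ∈ K, ∀ a ∈ A, k * a * k⁻¹ ∈ A := by
    rintro k hk _ ⟨a, ha, rfl⟩
    exact ⟨⟨k, hk⟩ * a * ⟨k, hk⟩⁻¹, hAn.conj_mem a ha _, rfl⟩
  have hAcomm : ∀ a ∈ A, ∀ b ∈ A, a * b = b * a := by
    rintro _ ⟨a, ha, rfl⟩ _ ⟨b, hb, rfl⟩
    rw [← map_mul, hAc a ha b hb, map_mul]
  have hApow : ∀ a ∈ A, a ^ p = 1 := by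
    rintro _ ⟨a, ha, rfl⟩
    rw [← map_pow, hAp a ha, map_one]
  have hAne : A ≠ ⊥ := by rwa [Ne, hA, Subgroup.map_eq_bot_iff_of_injective _ K.subtype_injective]
  have hKA : K ≤ normalizer (A : Set G) := fun k hk => mem_normalizer_iff.2 fun a =>
    ⟨hconjA k hk a, fun h => by
      have := hconjA k⁻¹ (inv_mem hk) _ h
      rwa [show k⁻¹ * (k * a * k⁻¹) * k⁻¹⁻¹ = a by group] at this⟩
  -- the top
  obtain ⟨x, y, hxy⟩ : ∃ x y : G, x * y ≠ y * x := by
    by_contra h
    push Not at h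
    obtain ⟨g₁, hg, hJh, -⟩ := PSLFour.exists_anti (F := F) hodd
    obtain ⟨a1, b1, hab, a0, b0, hne⟩ := PSLFour.pair_facts hodd (g := PSLFour.J) (h := g₁) ⟨PSLFour.J_sq, hg, hJh⟩
    have hcent : centralizer ({PSLFour.π (F := F) PSLFour.J} : Set (Matrix.ProjectiveSpecialLinearGroup (Fin 2) F)) = ⊤ :=
      eq_top_iff.2 fun z _ => GenDihedral.mem_cent.2 (e.symm.injective (by rw [map_mul, map_mul, h]))
    have := card_cent_psl hodd (orderOf_eq_prime ((pow_two _).trans a1) a0)
    rw [hcent, Nat.card_congr Subgroup.topEquiv.toEquiv, ← Nat.card_congr e.toEquiv, ← hc] at this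
    have := Subgroup.card_le_card_group K
    omega
  have hC : centralizer ((⊤ : Subgroup G) : Set G) = ⊥ := by
    rw [coe_top, centralizer_univ]
    rcases (inferInstance : (center G).Normal).eq_bot_or_eq_top with h | h
    · exact h
    · exact absurd (mem_center_iff.1 (h ▸ mem_top y) x) hxy
  have L : L2Like (⊤ : Subgroup G) :=
    l2Like_of_psl hodd (Subgroup.topEquiv.trans e) hC (rankTwo_of_dihedral S hm hS)
  -- a four-group through `t`
  obtain ⟨u, F4⟩ : ∃ u, IsFour t u (t * u) := by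
    obtain ⟨h₁, hh, hJh, -⟩ := PSLFour.exists_anti (F := F) hodd
    obtain ⟨a1, b1, hab, a0, b0, hne⟩ := PSLFour.pair_facts hodd (g := PSLFour.J) (h := h₁) ⟨PSLFour.J_sq, hh, hJh⟩
    have oJ := orderOf_eq_prime (p := 2) ((pow_two _).trans a1) a0
    have oh := orderOf_eq_prime (p := 2) ((pow_two _).trans b1) b0
    obtain ⟨g, hg⟩ := isConj_iff.1 (PSLFour.involutions_conj hodd _ _ oJ
      (show orderOf (e t) = 2 by rw [MulEquiv.orderOf_eq, ht]))
    obtain ⟨v, hv⟩ : ∃ v, v = g * PSLFour.π (F := F) h₁ * g⁻¹ := ⟨_, rfl⟩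
    refine ⟨e.symm v, isFour_of_comm ht ?_ (e.injective ?_) fun h' => ?_⟩
    · rw [MulEquiv.orderOf_eq, hv, ← MulAut.conj_apply, MulEquiv.orderOf_eq, oh]
    · rw [map_mul, map_mul, e.apply_symm_apply, ← hg, hv, _root_.conj_mul, _root_.conj_mul, hab]
    · have := congrArg e h'
      rw [e.apply_symm_apply, ← hg, hv, mul_left_inj, mul_right_inj] at this
      exact hne this
  rcases hp.eq_two_or_odd' with rfl | hpo
  swap
  · exfalso
    haveI : Fact p.Prime := ⟨hp⟩
    have hAo : Odd (Nat.card A) := by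
      have hP : IsPGroup p A := fun a => ⟨1, Subtype.ext (by simp [hApow _ a.2])⟩
      obtain ⟨k, hk⟩ := IsPGroup.iff_card.1 hP
      rw [hk]; exact hpo.pow
    have hV : Vg t u ≤ normalizer (A : Set G) := by
      refine (closure_le _).2 ?_
      rintro z (rfl | rfl) <;> refine hKA (hlt.le (GenDihedral.mem_cent.2 ?_))
      exacts [rfl, F4.comm.symm]
    obtain ⟨x, hx, hAx⟩ := L.exists_fix F4 hAo hV
    have hx2 : orderOf x = 2 := by rcases hx with rfl | rfl | rfl; exacts [ht, F4.t2, F4.s2]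
    obtain ⟨a, ha, ha1⟩ := A.bot_or_exists_ne_one.resolve_left hAne
    have haT : a ∈ Cfsg.Lib.FourGW.tor (⊤ : Subgroup G) x :=
      (L.mem_tor hx2).2 ⟨mem_top _, GenDihedral.mem_cent.1 (hAx ha), orderOf_odd hAo ha⟩
    refine hno x hx2 fun k hk => GenDihedral.mem_cent.2 (mul_inv_eq_iff_eq_mul.1 (L.ti hx2 haT ha1 ?_))
    exact GenDihedral.mem_cent.1 (hAx (hconjA k hk a ha))
  -- the exponent is two
  have hsq : ∀ a ∈ A, a * a = 1 := fun a ha => by rw [← pow_two]; exact hApow a ha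
  have ho2 : ∀ a ∈ A, a ≠ 1 → orderOf a = 2 := fun a ha h1 => orderOf_eq_prime (hApow a ha) h1
  obtain ⟨z, hz, hz1⟩ := A.bot_or_exists_ne_one.resolve_left hAne
  obtain ⟨v, hv, hv1, hvz⟩ : ∃ v ∈ A, v ≠ 1 ∧ v ≠ z := by
    by_contra h
    push Not at h
    refine hno z (ho2 z hz hz1) fun k hk => GenDihedral.mem_cent.2 (mul_inv_eq_iff_eq_mul.1 ?_)
    exact h _ (hconjA k hk z hz) fun e => hz1 (conj_eq_one_iff.1 e)
  have F' := isFour_of_comm (ho2 z hz hz1) (ho2 v hv hv1) (hAcomm z hz v hv) hvz.symm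
  have h4 := card_cent_four S hm hS L F'
  have hA4 : ∀ a ∈ A, a = 1 ∨ a = z ∨ a = v ∨ a = z * v := fun a ha => by
    rcases rankTwo_of_dihedral S hm hS z v a (hsq z hz) (hsq v hv) (hsq a ha) (hAcomm z hz v hv) (hAcomm z hz a ha)
      (hAcomm v hv a ha) with h | h | h | h | h | h | h
    exacts [absurd h hz1, absurd h hv1, absurd h hvz.symm, Or.inl h, Or.inr (Or.inl h), Or.inr (Or.inr (Or.inl h)),
      Or.inr (Or.inr (Or.inr h))]
  haveI := Fintype.ofFinite K
  have h24 : Nat.card K ≤ 24 := by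
    rw [Nat.card_eq_fintype_card, ← Finset.card_univ]
    let f : K → G × G := fun k => ((k : G) * z * (k : G)⁻¹, (k : G) * v * (k : G)⁻¹)
    have hfib : ∀ b ∈ Finset.univ.image f, (Finset.univ.filter fun k => f k = b).card ≤ 4 := by
      intro b hb
      obtain ⟨k₀, -, rfl⟩ := Finset.mem_image.1 hb
      refine le_trans ?_ h4
      rw [← Fintype.card_subtype, ← Nat.card_eq_fintype_card]
      refine Nat.card_le_card_of_injective (fun k => ⟨(k₀ : G)⁻¹ * (k.1 : G), ?_⟩) ?_
      · obtain ⟨h1, h2⟩ := Prod.ext_iff.1 k.2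
        refine mem_centralizer_iff.2 fun a ha => ?_
        have : (k.1 : G) * a * (k.1 : G)⁻¹ = (k₀ : G) * a * (k₀ : G)⁻¹ := by
          rcases ha with rfl | rfl
          exacts [h1, h2]
        calc a * ((k₀ : G)⁻¹ * k.1) = (k₀ : G)⁻¹ * ((k₀ : G) * a * (k₀ : G)⁻¹) * k.1 := by group
          _ = (k₀ : G)⁻¹ * k.1 * a := by rw [← this]; group
      · intro a b h
        exact Subtype.ext (Subtype.ext (mul_left_cancel (congrArg Subtype.val h)))
    have himg : Finset.univ.image f ⊆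
        ({(z, v), (v, z), (z, z * v), (z * v, z), (v, z * v), (z * v, v)} : Finset (G × G)) := by
      intro b hb
      obtain ⟨k, -, rfl⟩ := Finset.mem_image.1 hb
      have n1 : ∀ a, a ≠ 1 → (k : G) * a * (k : G)⁻¹ ≠ 1 := fun a h e => h (conj_eq_one_iff.1 e)
      have hd : (k : G) * z * (k : G)⁻¹ ≠ (k : G) * v * (k : G)⁻¹ :=
        fun e => hvz (mul_left_cancel (mul_right_cancel e)).symm
      simp only [f, Finset.mem_insert, Finset.mem_singleton, Prod.ext_iff]
      rcases (hA4 _ (hconjA k k.2 z hz)).resolve_left (n1 z hz1) with h1 | h1 | h1 <;>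
        rcases (hA4 _ (hconjA k k.2 v hv)).resolve_left (n1 v hv1) with h2 | h2 | h2 <;>
          first | exact absurd (h1.trans h2.symm) hd | simp [h1, h2]
    exact (Finset.card_le_mul_card_image _ 4 hfib).trans
      (Nat.mul_le_mul_left 4 ((Finset.card_le_card himg).trans Finset.card_le_six))
  have hdvd : c ∣ Nat.card K := hcard t ht ▸ Subgroup.card_dvd_of_le hlt.le
  have hKG : Nat.card K ∣ Nat.card G := Subgroup.card_subgroup_dvd_card K
  obtain ⟨j, hj⟩ := hdvd
  have hj2 : 2 ≤ j := by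
    by_contra hcon
    have : c * j ≤ c * 1 := Nat.mul_le_mul_left c (by omega)
    omega
  have hc12 : c ≤ 12 := by nlinarith
  have hmul : Nat.card G * 2 = Fintype.card F * (Fintype.card F ^ 2 - 1) := by
    rw [Nat.card_congr e.toEquiv]; exact Cfsg.Lib.FourGW.card_P2_mul hodd
  obtain ⟨hC1, hC3⟩ := PSLFour.card_C (F := F) hodd
  rw [← hc] at hC1 hC3
  obtain ⟨r, hr⟩ := hodd
  have hq : Fintype.card F ≤ 13 := by
    rcases (show Fintype.card F % 4 = 1 ∨ Fintype.card F % 4 = 3 by omega) with h | h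
    · have := hC1 h; omega
    · have := hC3 h; omega
  rcases (show Fintype.card F = 5 ∨ Fintype.card F = 7 ∨ Fintype.card F = 9 ∨ Fintype.card F = 11 ∨
    Fintype.card F = 13 by omega) with h | h | h | h | h
  · exact Or.inl h
  · exact Or.inr (Or.inl h)
  · exact Or.inr (Or.inr h)
  all_goals
    exfalso
    rw [h] at hmul hC1 hC3
    norm_num at hmul hC1 hC3
    have hK24 : Nat.card K = 24 := by nlinarith
    rw [hK24] at hKG
    obtain ⟨n, hn⟩ := hKG
    omega

/-- Simple groups with dihedral Sylow 2-subgroups and an involution centraliser properly contained in a subgroup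
without components. -/
theorem centralizer_up (hD : DihedralProp.{u}) [IsSimpleGroup G] (S : Sylow 2 G) (m : ℕ)
    (eS : ↥(S : Subgroup G) ≃* DihedralGroup m) (t : G) (ht : orderOf t = 2) (K : Subgroup G)
    (hlt : centralizer ({t} : Set G) < K)
    (hK : Cfsg.generalizedFittingSubgroup ↥K = Cfsg.fittingSubgroup ↥K) :
    Nonempty (G ≃* ↥(alternatingGroup (Fin 5))) ∨ Nonempty (G ≃* ↥(alternatingGroup (Fin 7))) ∨
      (∃ (F : Type) (_ : Field F) (_ : Fintype F), Fintype.card F = 2 ∧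
        Nonempty (G ≃* Matrix.ProjectiveSpecialLinearGroup (Fin 3) F)) ∨
      (∃ (F : Type) (_ : Field F) (_ : Fintype F), Fintype.card F = 9 ∧
        Nonempty (G ≃* Matrix.ProjectiveSpecialLinearGroup (Fin 2) F)) := by
  haveI : Fact (Nat.Prime 2) := ⟨Nat.prime_two⟩
  have hcard : Nat.card (S : Subgroup G) = 2 * m := by rw [Nat.card_congr eS.toEquiv, DihedralGroup.nat_card]
  have hpos := Nat.card_pos (α := (S : Subgroup G))
  have hm : 2 ≤ m := by
    by_contra h
    obtain rfl : m = 1 := by omega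
    haveI : IsCyclic (S : Subgroup G) := isCyclic_of_prime_card (p := 2) hcard
    haveI : Group.IsSolvable G := Cfsg.Lib.CyclicInter.solvable_of_cyclic S inferInstance
    have hcomm := IsSimpleGroup.comm_iff_isSolvable.2 ‹_›
    refine hlt.not_ge fun k _ => GenDihedral.mem_cent.2 (hcomm k t)
  rcases hD G S m hm ⟨eS⟩ with ⟨F, i, j, ho, h5, ⟨e⟩⟩ | h
  · rcases psl_field_card ho h5 S hm ⟨eS⟩ e ht hlt hK with h | h | h
    · obtain ⟨f⟩ := Cfsg.Agent.S0253.result h
      exact Or.inl ⟨e.trans f⟩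
    · haveI : Fact (Nat.Prime 2) := ⟨Nat.prime_two⟩
      obtain ⟨f⟩ := PSLSeven.psl_seven (K := ZMod 2) h (ZMod.card 2)
      exact Or.inr (Or.inr (Or.inl ⟨ZMod 2, inferInstance, inferInstance, ZMod.card 2, ⟨e.trans f⟩⟩))
    · exact Or.inr (Or.inr (Or.inr ⟨F, i, j, h, ⟨e⟩⟩))
  · exact Or.inr (Or.inl h)

end Cfsg.Lib.GWD
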